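import Cfsg.Agent.H34.SymEight.Basic
import Cfsg.Agent.S3333

/-!
# The centraliser of `c`: the normaliser of `D` or a double cover of degree six
-/

set_option autoImplicit false

namespace Cfsg.Agent.H34.SymEight.Data

open Equiv

variable {G : Type*} [Group G] (d : Data G) [Finite G]

theorem centralizer_c_cases :
    Subgroup.centralizer ({d.c} : Set G) = Subgroup.normalizer (d.D : Set G) ∨
      ∃ π : Subgroup.centralizer ({d.c} : Set G) →* Perm (Fin 6), Function.Surjective π ∧
        ∀ x, π x = 1 ↔ (x : G) = 1 ∨ (x : G) = d.c := by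
  classical
  set C := Subgroup.centralizer ({d.c} : Set G) with hCdef
  have hmemC : ∀ {g : G}, g ∈ C ↔ Commute g d.c := fun {g} => Subgroup.mem_centralizer_singleton_iff
  let cC : C := ⟨d.c, hmemC.2 (Commute.refl _)⟩
  have hcC2 : cC ^ 2 = 1 := Subtype.ext (by simpa [pow_two, cC] using d.c_sq)
  let N0 := Subgroup.zpowers cC
  haveI : N0.Normal := by
    refine ⟨fun n hn g => ?_⟩
    obtain ⟨k, rfl⟩ := Subgroup.mem_zpowers_iff.1 hn
    have hgc : Commute g cC := Subtype.ext (hmemC.1 g.2).eq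
    rw [(hgc.zpow_right k).eq, mul_inv_cancel_right]
    exact zpow_mem (Subgroup.mem_zpowers _) k
  have hN0 : ∀ x : C, x ∈ N0 ↔ (x : G) = 1 ∨ (x : G) = d.c := by
    intro x
    constructor
    · intro hx
      obtain ⟨k, rfl⟩ := Subgroup.mem_zpowers_iff.1 hx
      rcases Int.even_or_odd k with ⟨m, rfl⟩ | ⟨m, rfl⟩
      · left
        rw [← two_mul, zpow_mul, zpow_ofNat, hcC2, one_zpow]; rfl
      · right
        rw [zpow_add, zpow_mul, zpow_ofNat, hcC2, one_zpow, one_mul, zpow_one]
    · rintro (h | h)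
      · rw [show x = 1 from Subtype.ext h]; exact one_mem _
      · rw [show x = cC from Subtype.ext h]; exact Subgroup.mem_zpowers _
  set π := QuotientGroup.mk' N0 with hπ
  have hπeq : ∀ a b : C, π a = π b → (b : G) = a ∨ (b : G) = a * d.c := by
    intro a b h
    rcases (hN0 _).1 (QuotientGroup.eq.1 h) with h | h
    · left
      rw [Subgroup.coe_mul, Subgroup.coe_inv, inv_mul_eq_one] at h
      exact h.symm
    · right
      rw [Subgroup.coe_mul, Subgroup.coe_inv, inv_mul_eq_iff_eq_mul] at h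
      exact h
  have hDC : ∀ {x : G}, x ∈ d.D → x ∈ C := fun hx => hmemC.2 (d.D_c hx)
  set S := (d.D.subgroupOf C).map π with hS
  -- conjugating an element of `D` into the coset of `D` modulo `c` stays in `D`
  have hcube : ∀ (g : C) (x y : G) (hx : x ∈ d.D) (hy : y ∈ d.D),
      π (g * ⟨x, hDC hx⟩ * g⁻¹) = π ⟨y, hDC hy⟩ → (g : G) * x * (g : G)⁻¹ = y := by
    intro g x y hx hy h
    rcases hπeq _ _ h with h1 | h1
    · simpa using h1.symm
    · simp only [Subgroup.coe_mul, Subgroup.coe_inv] at h1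
      exfalso
      have h2 : (y * d.c) ^ 3 = 1 := by
        rw [h1, mul_assoc _ d.c, d.c_sq, mul_one, conj_pow, d.D_cube hx, mul_one,
          mul_inv_cancel]
      rw [(d.D_c hy).mul_pow, d.D_cube hy, one_mul, pow_succ, pow_two, d.c_sq, one_mul] at h2
      exact d.c_ne h2
  have hnormOf : ∀ g : C, π g ∈ Subgroup.normalizer (S : Set (C ⧸ N0)) →
      (g : G) ∈ Subgroup.normalizer (d.D : Set G) := by
    intro g hg
    refine d.mem_norm_of ?_ ?_
    all_goals
      first
      | (obtain ⟨y, hy, hyx⟩ := (Subgroup.mem_normalizer_iff.1 hg (π ⟨d.z, hDC d.z_mem⟩)).1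
            ⟨_, Subgroup.mem_subgroupOf.2 d.z_mem, rfl⟩
         rw [← map_inv, ← map_mul, ← map_mul] at hyx
         rw [hcube g d.z y d.z_mem (Subgroup.mem_subgroupOf.1 hy) hyx.symm]
         exact Subgroup.mem_subgroupOf.1 hy)
      | (obtain ⟨y, hy, hyx⟩ := (Subgroup.mem_normalizer_iff.1 hg (π ⟨d.z', hDC d.z'_mem⟩)).1
            ⟨_, Subgroup.mem_subgroupOf.2 d.z'_mem, rfl⟩
         rw [← map_inv, ← map_mul, ← map_mul] at hyx
         rw [hcube g d.z' y d.z'_mem (Subgroup.mem_subgroupOf.1 hy) hyx.symm]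
         exact Subgroup.mem_subgroupOf.1 hy)
  have hnormTo : ∀ g : C, (g : G) ∈ Subgroup.normalizer (d.D : Set G) →
      π g ∈ Subgroup.normalizer (S : Set (C ⧸ N0)) := by
    intro g hg
    refine Subgroup.le_normalizer_map (H := d.D.subgroupOf C) π ⟨g, ?_, rfl⟩
    refine Subgroup.mem_normalizer_iff.2 fun x => ?_
    simp only [Subgroup.mem_subgroupOf, Subgroup.coe_mul, Subgroup.coe_inv]
    exact Subgroup.mem_normalizer_iff.1 hg x
  -- the Sylow subgroup
  have hSinj : Function.Injective ((π.comp (Subgroup.subtype (d.D.subgroupOf C)))) := by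
    refine (injective_iff_map_eq_one _).2 fun x hx => ?_
    rcases (hN0 _).1 ((QuotientGroup.eq_one_iff _).1 hx) with h | h
    · exact Subtype.ext (Subtype.ext h)
    · exfalso
      have := d.D_cube (Subgroup.mem_subgroupOf.1 x.2)
      rw [show ((x : C) : G) = d.c from h, pow_succ, pow_two, d.c_sq, one_mul] at this
      exact d.c_ne this
  have hDcard : Nat.card d.D = 9 := by
    have hmem : ∀ x : Fin 3 × Fin 3, d.z ^ (x.1 : ℕ) * d.z' ^ (x.2 : ℕ) ∈ d.D := fun x =>
      mul_mem (pow_mem d.z_mem _) (pow_mem d.z'_mem _)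
    have hb : Function.Bijective (fun x : Fin 3 × Fin 3 => (⟨_, hmem x⟩ : d.D)) := by
      constructor
      · rintro ⟨i, j⟩ ⟨i', j'⟩ h
        have h' := Subtype.ext_iff.1 h
        simp only [z', ← map_pow] at h'
        obtain ⟨h1, h2⟩ := d.split_eq i.2 i'.2 h'
        have : ∀ a < 3, ∀ b < 3, t5 ^ a = t5 ^ b → a = b := by decide +kernel
        exact Prod.ext (Fin.ext h1) (Fin.ext (this _ j.2 _ j'.2 h2))
      · rintro ⟨g, hg⟩
        obtain ⟨i, j, hi, hj, rfl⟩ := d.mem_D.1 hg
        exact ⟨(⟨i, hi⟩, ⟨j, hj⟩), rfl⟩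
    rw [← Nat.card_eq_of_bijective _ hb, Nat.card_prod, Nat.card_eq_fintype_card, Fintype.card_fin]
  have hScard : Nat.card S = 9 := by
    have h1 : S = (π.comp (Subgroup.subtype (d.D.subgroupOf C))).range := by
      rw [hS, MonoidHom.range_comp, Subgroup.range_subtype]
    rw [h1, ← Nat.card_congr (MonoidHom.ofInjective hSinj).toEquiv,
      Nat.card_congr (Subgroup.subgroupOfEquivOfLe fun x hx => hDC hx).toEquiv, hDcard]
  haveI : Fact (Nat.Prime 3) := ⟨Nat.prime_three⟩
  obtain ⟨P, hP⟩ := (IsPGroup.of_card (p := 3) (n := 2) (by rw [hScard]; norm_num) :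
    IsPGroup 3 S).exists_le_sylow
  have hSP : S = P := by
    refine Subgroup.eq_of_le_of_card_ge hP ?_
    obtain ⟨k, hk⟩ := P.2.exists_card_eq
    rw [hk, hScard]
    by_contra hlt
    have hk3 : 3 ≤ k := by
      by_contra h
      push Not at h
      exact hlt (le_trans (pow_le_pow_right₀ (by norm_num) (Nat.le_of_lt_succ h)) (by norm_num))
    have h27 : 27 ∣ Nat.card (C ⧸ N0) := by
      refine dvd_trans ?_ (Subgroup.card_subgroup_dvd_card (P : Subgroup (C ⧸ N0)))
      rw [hk]
      exact pow_dvd_pow 3 hk3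
    exact d.not_27 (h27.trans ((Subgroup.card_quotient_dvd_card N0).trans
      (Subgroup.card_subgroup_dvd_card C)))
  -- self-centralising
  have hSC : Subgroup.centralizer (S : Set (C ⧸ N0)) = S := by
    apply le_antisymm
    · intro a ha
      obtain ⟨g, rfl⟩ := QuotientGroup.mk'_surjective N0 a
      have key : ∀ (x : G) (hx : x ∈ d.D), Commute (g : G) x := by
        intro x hx
        have h1 := Subgroup.mem_centralizer_iff.1 ha (π ⟨x, hDC hx⟩)
          ⟨_, Subgroup.mem_subgroupOf.2 hx, rfl⟩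
        refine mul_inv_eq_iff_eq_mul.1 (hcube g x x hx hx ?_)
        rw [map_mul, map_mul, map_inv, ← h1, mul_inv_cancel_right]
      rcases d.of_comm_D (key _ d.z_mem) (key _ d.z'_mem) with h | ⟨x, hx, h⟩
      · exact ⟨g, Subgroup.mem_subgroupOf.2 h, rfl⟩
      · refine ⟨⟨x, hDC hx⟩, Subgroup.mem_subgroupOf.2 hx, ?_⟩
        refine QuotientGroup.eq.2 ((hN0 _).2 (Or.inr ?_))
        simp [h]
    · rintro _ ⟨x, hx, rfl⟩
      rw [Subgroup.mem_centralizer_iff]
      rintro _ ⟨y, hy, rfl⟩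
      rw [← map_mul, ← map_mul]
      congr 1
      exact Subtype.ext (d.D_comm hy hx).eq
  have hcent : ∀ a ∈ S, a ≠ 1 →
      Subgroup.centralizer ({a} : Set (C ⧸ N0)) ≤ Subgroup.normalizer (S : Set (C ⧸ N0)) := by
    rintro _ ⟨x, hx, rfl⟩ hne b hb
    obtain ⟨g, rfl⟩ := QuotientGroup.mk'_surjective N0 b
    have h1 := Subgroup.mem_centralizer_singleton_iff.1 hb
    have hx' : (x : G) ∈ d.D := Subgroup.mem_subgroupOf.1 hx
    refine hnormTo g (d.centralizer_inf_le hx' ?_ (mul_inv_eq_iff_eq_mul.1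
      (hcube g x x hx' hx' ?_)) (hmemC.1 g.2))
    · intro h
      apply hne
      rw [show x = 1 from Subtype.ext h, map_one]
    · rw [map_mul, map_mul, map_inv]
      exact mul_inv_eq_iff_eq_mul.2 h1
  -- the automiser is dihedral of order eight
  obtain ⟨f, hf, hker⟩ : ∃ f : Subgroup.normalizer (d.D : Set G) →* DihedralGroup 4,
      Function.Surjective f ∧ f.ker = (Subgroup.centralizer (d.D : Set G)).subgroupOf _ := d.norm_hom
  let ψ : Subgroup.normalizer (d.D : Set G) →* Subgroup.normalizer (S : Set (C ⧸ N0)) :=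
    { toFun := fun n => ⟨π ⟨n, d.norm_le_centralizer_c n.2⟩, hnormTo _ n.2⟩
      map_one' := Subtype.ext (map_one π)
      map_mul' := fun a b => Subtype.ext (map_mul π ⟨a, d.norm_le_centralizer_c a.2⟩
        ⟨b, d.norm_le_centralizer_c b.2⟩) }
  let φ := (QuotientGroup.mk' (S.subgroupOf (Subgroup.normalizer (S : Set (C ⧸ N0))))).comp ψ
  have hφ : Function.Surjective φ := by
    refine (QuotientGroup.mk'_surjective _).comp ?_
    rintro ⟨a, ha⟩
    obtain ⟨g, rfl⟩ := QuotientGroup.mk'_surjective N0 a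
    exact ⟨⟨g, hnormOf g ha⟩, rfl⟩
  have hφker : φ.ker = f.ker := by
    ext n
    rw [hker, MonoidHom.mem_ker, Subgroup.mem_subgroupOf]
    rw [MonoidHom.comp_apply, QuotientGroup.mk'_apply, QuotientGroup.eq_one_iff, Subgroup.mem_subgroupOf]
    constructor
    · intro h
      obtain ⟨x, hx, hxn⟩ := h
      have hx' : (x : G) ∈ d.D := Subgroup.mem_subgroupOf.1 hx
      rw [Subgroup.mem_centralizer_iff]
      intro y hy
      rcases hπeq _ _ hxn with h | h
      · rw [h]; exact (d.D_comm hy hx').eq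
      · rw [h]; exact ((d.D_comm hy hx').mul_right (d.D_c hy)).eq
    · intro h
      rw [Subgroup.mem_centralizer_iff] at h
      rcases d.of_comm_D (h _ d.z_mem).symm (h _ d.z'_mem).symm with h' | ⟨x, hx, h'⟩
      · exact ⟨_, Subgroup.mem_subgroupOf.2 h', rfl⟩
      · refine ⟨⟨x, hDC hx⟩, Subgroup.mem_subgroupOf.2 hx, ?_⟩
        refine QuotientGroup.eq.2 ((hN0 _).2 (Or.inr ?_))
        simp [h']
  have eN : Subgroup.normalizer (S : Set (C ⧸ N0)) ⧸
      S.subgroupOf (Subgroup.normalizer (S : Set (C ⧸ N0))) ≃* DihedralGroup 4 :=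
    ((QuotientGroup.quotientKerEquivOfSurjective φ hφ).symm.trans
      (QuotientGroup.quotientMulEquivOfEq hφker)).trans
      (QuotientGroup.quotientKerEquivOfSurjective f hf)
  rcases Cfsg.Agent.S3333.result P S hSP hScard hSC eN hcent with hn | ⟨⟨e⟩⟩
  · left
    refine le_antisymm (fun g hg => ?_) d.norm_le_centralizer_c
    haveI := hn
    exact hnormOf ⟨g, hg⟩ (by rw [Subgroup.normalizer_eq_top]; exact Subgroup.mem_top _)
  · right
    refine ⟨e.toMonoidHom.comp π, e.surjective.comp (QuotientGroup.mk'_surjective N0), fun x => ?_⟩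
    rw [MonoidHom.comp_apply, MulEquiv.coe_toMonoidHom, e.map_eq_one_iff]
    exact (QuotientGroup.eq_one_iff x).trans (hN0 x)

end Cfsg.Agent.H34.SymEight.Data
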