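import Cfsg.Prelude.Def_Local
import Cfsg.Agent.H34.SymEight.CaseSplit
import Cfsg.Agent.H34.SymEight.Product
import Cfsg.Agent.H87.SymEightEndgame
import Cfsg.Agent.H89.SymEightProduct

/-!
# The exceptional configuration of the Sym(8) recognition theorem
-/

set_option autoImplicit false

namespace Cfsg.Agent.H34.SymEight.Data

universe u

/-- Either the centraliser of `c` is twice `Sym(6)`, or the conclusion with `Alt(5) × Alt(5)`. -/
theorem double_or_product {G : Type u} [Group G] [Finite G] (d : Data G) :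
    (∃ π : Subgroup.centralizer ({d.c} : Set G) →* Equiv.Perm (Fin 6), Function.Surjective π ∧
      ∀ x, π x = 1 ↔ (x : G) = 1 ∨ (x : G) = d.c) ∨
    ∃ N : Subgroup G, N.Normal ∧ Cfsg.generalizedFittingSubgroup G = N ∧
      Nonempty (N ≃* alternatingGroup (Fin 5) × alternatingGroup (Fin 5)) ∧
      (∀ K : Subgroup G, K.Normal → K ≤ N → K = ⊥ ∨ K = N) ∧
      N.index = 4 ∧ ∀ g : G, g ^ 2 ∈ N := by
  rcases d.centralizer_c_cases with h | h
  · right
    obtain ⟨Φ, hinj, hq, hn, hidx, hsq, hC⟩ := d.exists_product h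
      (fun K _ _ Ψ hi ho h3 => Cfsg.Agent.H87.SymEight.endgame Ψ hi ho h3)
    exact product_conclusion Φ hinj d.q hq hn hidx hsq hC
  · exact Or.inl h

end Cfsg.Agent.H34.SymEight.Data
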